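import Groth.Agent.GenDiff29.Alg
import Groth.Agent.Synt29.StalkFormal
import Groth.Agent.FlatMisc.SmoothGeneric
import Groth.Agent.VarDim.Top
import Groth.Agent.S2266
import Groth.Agent.QCoh.LocFree
import Groth.Agent.TorLib.Basic

/-!
The canonical map of differentials at the generic point of the source.
-/

set_option autoImplicit false
set_option backward.isDefEq.respectTransparency false
set_option backward.isDefEq.respectTransparency.types false

universe u

open CategoryTheory CategoryTheory.Limits AlgebraicGeometry TopologicalSpace Opposite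

namespace Groth.Agent.GenDiff29

open Synt29.OmegaStalk Groth.Agent.KFlatLib

theorem isTorsionFree_of_isFinLocFree {X : Scheme.{u}} [IsIntegral X] {M : X.Modules}
    (hM : FlatMod.IsFinLocFree M) : TorSh.IsTorsionFree M := fun x => by
  have := QCoh.free_stalk_of_isFinLocFree hM x
  infer_instance

theorem mono_of_generic {X : Scheme.{u}} [IsIntegral X] {M N : X.Modules} (hM : FlatMod.IsFinLocFree M) (c : M ⟶ N)
    (h : Function.Injective ((DerSch.stalkFunctor X (genericPoint X)).map c)) : Mono c := by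
  rw [mono_iff_stalk]
  intro x
  refine (injective_iff_map_eq_zero _).2 fun z hz => ?_
  obtain ⟨U, hx, s, rfl⟩ := gm_surjective M z
  have hz' : gm N hx (c.app U s) = gm N hx 0 := by
    rw [map_zero]
    exact ((DerSch.stalkFunctor_map_germ x c U hx s).symm.trans hz)
  obtain ⟨W, hxW, i, j, e⟩ := TopCat.Presheaf.germ_eq N.presheaf x hx hx _ _ hz'
  rw [map_zero] at e
  have hξW : genericPoint X ∈ W := (genericPoint_specializes x).mem_open W.isOpen hxW
  have h1 : c.app W (M.presheaf.map i.op s) = 0 := (congr($(c.mapPresheaf.naturality i.op) s)).trans e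
  have h2 : gm M hξW (M.presheaf.map i.op s) = 0 := h (by
    rw [map_zero]
    exact (DerSch.stalkFunctor_map_germ (genericPoint X) c W hξW _).trans ((congrArg _ h1).trans (map_zero _)))
  have h3 : M.presheaf.map i.op s = 0 :=
    TorLib.eq_zero_of_germ_genericPoint (QCoh.isQCoh_of_isFinLocFree hM) (isTorsionFree_of_isFinLocFree hM)
      hξW _ h2
  rw [← gm_res M i hxW, h3, map_zero]

section Maps

variable {X Z S : Scheme.{u}} (f : X ⟶ Z) (q : Z ⟶ S)
  {ΩZ : Z.Modules} {dZ : OmegaSh.Der q ΩZ} (hdZ : OmegaSh.IsUniversal dZ)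
  {ΩX : X.Modules} {dX : OmegaSh.Der (f ≫ q) ΩX} (hdX : OmegaSh.IsUniversal dX)
  {c : (Scheme.Modules.pullback f).obj ΩZ ⟶ ΩX} (hc : OmegaSh.IsDiffCompat f dZ dX c)

include hdZ hdX hc

theorem injective_stalk [LocallyOfFinitePresentation f] (x : X) (hs : x ∈ f.smoothLocus) :
    Function.Injective ((DerSch.stalkFunctor X x).map c) := by
  obtain ⟨i₁, i₂, hi⟩ := exists_stalk_square hdZ hdX c hc x (q.stalkMap (f x)) rfl
    (q.stalkMap (f x) ≫ f.stalkMap x) (Scheme.Hom.stalkMap_comp f q x).symm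
  exact (stalk_iff i₁ i₂ (hi _ (baseMap_unit _ _))).1.mpr (baseMap_injective _ _ hs)

/-- The stalk of `c` on differentials of functions. -/
theorem map_c_stalkD (x : X) (a : Z.presheaf.stalk (f x)) :
    ∃ z : St ((Scheme.Modules.pullback f).obj ΩZ) x,
      (DerSch.stalkFunctor X x).map c z = (stalkD dX x).d (f.stalkMap x a) := by
  obtain ⟨U, hU, s, rfl⟩ := Z.presheaf.exists_germ_eq (x := f x) a
  refine ⟨gm _ (show x ∈ f ⁻¹ᵁ U from hU) (OmegaSh.pullSect f ΩZ U (dZ.app U s)), ?_⟩
  refine (DerSch.stalkFunctor_map_germ x c _ (show x ∈ f ⁻¹ᵁ U from hU) _).trans ?_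
  rw [hc U s, Scheme.Hom.germ_stalkMap_apply, stalkD_germ]
  rfl

end Maps

theorem genericPoint_eq_of_isDominant {X Y : Scheme.{u}} [IrreducibleSpace X] [IrreducibleSpace Y]
    (f : X ⟶ Y) [IsDominant f] : f (genericPoint X) = genericPoint Y := by
  have h1 : IsGenericPoint (f.base (genericPoint X)) (closure (f.base '' Set.univ)) :=
    (genericPoint_spec X).image f.continuous
  rw [Set.image_univ, f.denseRange.closure_eq] at h1
  exact h1.eq (genericPoint_spec Y)

theorem isField_stalk_of_eq {Y : Scheme.{u}} [IsIntegral Y] {y : Y} (hy : y = genericPoint Y) :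
    IsField (Y.presheaf.stalk y) := by
  subst hy
  exact Field.toIsField Y.functionField

/-- The scalars inside a stalk. -/
noncomputable def scal {k : Type u} [Field k] {Y : Scheme.{u}} (r : Y ⟶ Spec (CommRingCat.of k)) (y : Y) :
    k →+* Y.presheaf.stalk y :=
  (Y.presheaf.germ ⊤ y trivial).hom.comp (VarDim.baseMap r)

theorem essFiniteType_stalk {k : Type u} [Field k] {Y : Scheme.{u}} [IsIntegral Y]
    (r : Y ⟶ Spec (CommRingCat.of k)) [LocallyOfFiniteType r] {y : Y} (hy : y = genericPoint Y) :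
    letI := (scal r y).toAlgebra
    Algebra.EssFiniteType k (Y.presheaf.stalk y) := by
  subst hy
  obtain ⟨_, ⟨U, hU, rfl⟩, hxU, -⟩ :=
    Y.isBasis_affineOpens.exists_subset_of_mem_open (Set.mem_univ (genericPoint Y)) isOpen_univ
  replace hU : IsAffineOpen U := hU
  haveI : Nonempty U := ⟨⟨_, hxU⟩⟩
  letI : Algebra k Γ(Y, U) :=
    ((Y.presheaf.map (homOfLE (le_top (a := U))).op).hom.comp (VarDim.baseMap r)).toAlgebra
  letI := (scal r (genericPoint Y)).toAlgebra
  haveI := functionField_isFractionRing_of_isAffineOpen Y U hU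
  haveI : IsScalarTower k Γ(Y, U) Y.functionField := IsScalarTower.of_algebraMap_eq fun c => by
    show Y.presheaf.germ ⊤ (genericPoint Y) trivial (VarDim.baseMap r c) = _
    exact (Y.presheaf.germ_res_apply (homOfLE le_top) _ _ _).symm
  haveI : Algebra.FiniteType k Γ(Y, U) := by
    have h := r.finiteType_appLE (isAffineOpen_top (Spec (CommRingCat.of k))) hU (by simp)
    have h2 : ((r.appLE ⊤ U (by simp)).hom.comp (Scheme.ΓSpecIso (CommRingCat.of k)).inv.hom).FiniteType :=
      h.comp (RingHom.FiniteType.of_surjective _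
        (Scheme.ΓSpecIso (CommRingCat.of k)).symm.commRingCatIsoToRingEquiv.surjective)
    exact RingHom.finiteType_algebraMap.1 h2
  haveI : Algebra.EssFiniteType Γ(Y, U) Y.functionField :=
    Algebra.EssFiniteType.of_isLocalization Y.functionField (nonZeroDivisors Γ(Y, U))
  exact Algebra.EssFiniteType.comp k Γ(Y, U) Y.functionField

theorem trdeg_stalk {k : Type u} [Field k] {Y : Scheme.{u}} [IsIntegral Y]
    (r : Y ⟶ Spec (CommRingCat.of k)) [LocallyOfFiniteType r] {y : Y} (hy : y = genericPoint Y) :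
    letI := (scal r y).toAlgebra
    Algebra.trdeg k (Y.presheaf.stalk y) = (VarDim.deg r y : Cardinal) := by
  letI := (scal r y).toAlgebra
  letI := (VarDim.resHom r y).toAlgebra
  obtain ⟨_, ⟨U, hU, rfl⟩, hxU, -⟩ :=
    Y.isBasis_affineOpens.exists_subset_of_mem_open (Set.mem_univ y) isOpen_univ
  obtain ⟨n, hn, -⟩ := VarDim.tdeg_eq_coheight r hU (hU.primeIdealOf ⟨y, hxU⟩)
  rw [hU.fromSpec_primeIdealOf ⟨y, hxU⟩] at hn
  change VarDim.tdeg r y = n at hn
  have e1 : Algebra.trdeg k (Y.presheaf.stalk y) = VarDim.tdeg r y := by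
    let φ : Y.presheaf.stalk y →ₐ[k] Y.residueField y :=
      { (Y.residue y).hom with commutes' := fun _ => rfl }
    have hF := isField_stalk_of_eq hy
    letI := hF.toField
    have hb : Function.Bijective φ :=
      ⟨RingHom.injective (φ : Y.presheaf.stalk y →+* Y.residueField y), Scheme.residue_surjective _ y⟩
    exact (AlgEquiv.ofBijective φ hb).trdeg_eq
  rw [e1, VarDim.deg, hn, Cardinal.toNat_natCast]

theorem surjective_toStalk (k : Type u) [Field k] (pt : Spec (CommRingCat.of k)) :
    Function.Surjective ((((Spec (CommRingCat.of k)).presheaf.germ ⊤ pt trivial).hom.comp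
      (Scheme.ΓSpecIso (CommRingCat.of k)).inv.hom) : k →+* _) := by
  intro z
  let R : CommRingCat.{u} := CommRingCat.of k
  letI : Algebra R ((Spec R).presheaf.stalk pt) := StructureSheaf.stalkAlgebra R pt
  haveI : IsLocalization.AtPrime ((Spec R).presheaf.stalk pt) pt.asIdeal :=
    StructureSheaf.IsLocalization.to_stalk R pt
  obtain ⟨a, s, rfl⟩ := IsLocalization.exists_mk'_eq pt.asIdeal.primeCompl z
  have hs : (s : k) ≠ 0 := fun h => s.2 (by rw [h]; exact zero_mem _)
  refine ⟨(a : k) * (s : k)⁻¹, IsLocalization.eq_mk'_iff_mul_eq.2 ?_⟩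
  show algebraMap R _ ((a : k) * (s : k)⁻¹) * algebraMap R _ (s : k) = algebraMap R _ a
  rw [← map_mul]
  exact congrArg _ (inv_mul_cancel_right₀ hs a)

/-- Differentials of functions of the target have full rank at the generic point. -/
theorem exists_linearIndependent_stalk {k : Type u} [Field k] {X Y Z : Scheme.{u}} [IsIntegral X] [IsIntegral Y]
    (f : X ⟶ Y) (ι : Y ⟶ Z) [IsClosedImmersion ι] (q : Z ⟶ Spec (CommRingCat.of k)) [LocallyOfFiniteType q]
    [IsDominant f] [LocallyOfFinitePresentation f] (hs : genericPoint X ∈ f.smoothLocus)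
    {ΩX : X.Modules} {dX : OmegaSh.Der ((f ≫ ι) ≫ q) ΩX} (hdX : OmegaSh.IsUniversal dX)
    (m : ℕ) (hm : m ≤ VarDim.deg (ι ≫ q) (f (genericPoint X))) :
    ∃ a : Fin m → Z.presheaf.stalk ((f ≫ ι) (genericPoint X)),
      LinearIndependent (X.presheaf.stalk (genericPoint X))
        fun l => ((stalkD dX (genericPoint X)).d ((f ≫ ι).stalkMap (genericPoint X) (a l)) : St ΩX (genericPoint X)) := by
  set ξ := genericPoint X
  have hy := genericPoint_eq_of_isDominant f
  have hK := isField_stalk_of_eq hy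
  letI := hK.toField
  letI := (scal (ι ≫ q) (f ξ)).toAlgebra
  haveI := essFiniteType_stalk (ι ≫ q) hy
  have htr := trdeg_stalk (ι ≫ q) hy
  let ρ : k →+* (Spec (CommRingCat.of k)).presheaf.stalk (q (ι (f ξ))) :=
    ((Spec (CommRingCat.of k)).presheaf.germ ⊤ _ trivial).hom.comp (Scheme.ΓSpecIso (CommRingCat.of k)).inv.hom
  obtain ⟨a, ha⟩ := exists_linearIndependent_baseMap ρ (surjective_toStalk k _) (q.stalkMap (ι (f ξ)))
    ((f ≫ ι).stalkMap ξ) (Y.presheaf.stalk (f ξ)) (ι.stalkMap (f ξ)).hom (ι.stalkMap_surjective _)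
    (f.stalkMap ξ).hom hs (congrArg CommRingCat.Hom.hom (Scheme.Hom.stalkMap_comp f ι ξ))
    (fun c => by
      show _ = ι.stalkMap (f ξ) (q.stalkMap (ι (f ξ)) ((Spec (CommRingCat.of k)).presheaf.germ ⊤ _ trivial _))
      erw [Scheme.Hom.germ_stalkMap_apply, Scheme.Hom.germ_stalkMap_apply]
      rfl)
    (isField_stalk_of_eq rfl) m (htr.symm ▸ Nat.cast_le.2 hm)
  obtain ⟨i, hi⟩ := exists_iso_of_eq hdX ξ (q.stalkMap (ι (f ξ)) ≫ (f ≫ ι).stalkMap ξ)
    (Scheme.Hom.stalkMap_comp (f ≫ ι) q ξ).symm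
  refine ⟨a, ?_⟩
  have h := ha.map' i.hom.hom (LinearMap.ker_eq_bot.2 (ConcreteCategory.bijective_of_isIso i.hom).1)
  have e : (i.hom.hom ∘ fun l => (CommRingCat.KaehlerDifferential.d ((f ≫ ι).stalkMap ξ (a l)) :
      CommRingCat.KaehlerDifferential (q.stalkMap (ι (f ξ)) ≫ (f ≫ ι).stalkMap ξ))) =
      fun l => (stalkD dX ξ).d ((f ≫ ι).stalkMap ξ (a l)) := funext fun l => hi _
  exact e ▸ h

/-- The generic fibre is unchanged by a closed immersion of the target. -/
theorem geometricallyReduced_fiber {X Y Z : Scheme.{u}} (f : X ⟶ Y) (ι : Y ⟶ Z) [IsClosedImmersion ι] (y : Y)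
    (h : GeometricallyReduced (pullback.snd (f ≫ ι) (Z.fromSpecResidueField (ι y)))) :
    GeometricallyReduced (f.fiberToSpecResidueField y) := by
  have hiso : IsIso (ι.residueFieldMap y) := by
    rw [ConcreteCategory.isIso_iff_bijective]
    refine ⟨(ι.residueFieldMap y).hom.injective, fun w => ?_⟩
    obtain ⟨v, rfl⟩ := Scheme.residue_surjective _ y w
    obtain ⟨u', rfl⟩ := ι.stalkMap_surjective y v
    exact ⟨Z.residue (ι y) u', congr($(Scheme.residue_residueFieldMap ι y) u')⟩
  have P2 : IsPullback (Y.fromSpecResidueField y) (Spec.map (ι.residueFieldMap y)) ι (Z.fromSpecResidueField (ι y)) :=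
    IsPullback.of_vert_isIso_mono ⟨(Scheme.Hom.SpecMap_residueFieldMap_fromSpecResidueField ι y).symm⟩
  have P1 := IsPullback.of_hasPullback f (Y.fromSpecResidueField y)
  have P := P1.paste_vert P2
  let e := IsPullback.isoIsPullback _ _ P (IsPullback.of_hasPullback (f ≫ ι) (Z.fromSpecResidueField (ι y)))
  have h' : GeometricallyReduced (pullback.snd f (Y.fromSpecResidueField y) ≫ Spec.map (ι.residueFieldMap y)) := by
    rw [← IsPullback.isoIsPullback_hom_snd _ _ P (IsPullback.of_hasPullback (f ≫ ι) (Z.fromSpecResidueField (ι y)))]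
    exact (MorphismProperty.cancel_left_of_respectsIso @GeometricallyReduced e.hom _).2 h
  exact (MorphismProperty.cancel_right_of_respectsIso @GeometricallyReduced _ _).1 h'

end Groth.Agent.GenDiff29
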