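import Groth.Agent.Synt29.OmegaMaps
import Mathlib

/-!
The rank of the differentials of a finitely generated field extension is at least its transcendence degree.
-/

set_option autoImplicit false

universe u

namespace Groth.Agent.GenDiff29

open CategoryTheory
open scoped TensorProduct

theorem trdeg_le_of_span (k K : Type u) [Field k] [Field K] [Algebra k K] [Algebra.EssFiniteType k K]
    (s : Set K) (hs : Submodule.span K (KaehlerDifferential.D k K '' s) = ⊤) :
    Algebra.trdeg k K ≤ Cardinal.mk s := by
  let F := IntermediateField.adjoin k s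
  haveI : Algebra.EssFiniteType F K := Algebra.EssFiniteType.of_comp k F K
  haveI : Algebra.FormallyUnramified F K := by
    constructor
    refine subsingleton_of_forall_eq 0 fun ω => ?_
    obtain ⟨η, rfl⟩ := KaehlerDifferential.map_surjective k F K ω
    have : η ∈ Submodule.span K (KaehlerDifferential.D k K '' s) := by rw [hs]; trivial
    induction this using Submodule.span_induction with
    | mem y hy =>
      obtain ⟨x, hx, rfl⟩ := hy
      rw [KaehlerDifferential.map_D, Algebra.algebraMap_self_apply,
        show x = algebraMap F K ⟨x, IntermediateField.subset_adjoin k _ hx⟩ from rfl, Derivation.map_algebraMap]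
    | zero => simp
    | add y z _ _ hy hz => simp [hy, hz]
    | smul a y _ hy => simp [hy]
  haveI : Module.Finite F K := Algebra.FormallyUnramified.finite_of_free F K
  haveI : Algebra.IsAlgebraic F K := Algebra.IsAlgebraic.of_finite F K
  haveI : Algebra.IsAlgebraic (Algebra.adjoin k s) K :=
    IntermediateField.isAlgebraic_adjoin_iff_top.1 inferInstance
  exact Algebra.IsAlgebraic.trdeg_le_cardinalMk k s

theorem exists_linearIndependent_D (k K : Type u) [Field k] [Field K] [Algebra k K] [Algebra.EssFiniteType k K]
    (m : ℕ) (hm : (m : Cardinal.{u}) ≤ Algebra.trdeg k K) :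
    ∃ b : Fin m → K, LinearIndependent K fun l => KaehlerDifferential.D k K (b l) := by
  obtain ⟨t, htsub, htspan, htli⟩ := exists_linearIndependent K (Set.range (KaehlerDifferential.D k K))
  choose σ hσ using fun v : t => htsub v.2
  have hspan : Submodule.span K (KaehlerDifferential.D k K '' Set.range σ) = ⊤ := by
    rw [← top_le_iff, ← KaehlerDifferential.span_range_derivation k K, ← htspan]
    exact Submodule.span_mono fun v hv => ⟨σ ⟨v, hv⟩, ⟨_, rfl⟩, hσ ⟨v, hv⟩⟩
  have h1 : (m : Cardinal.{u}) ≤ Cardinal.mk t :=
    hm.trans ((trdeg_le_of_span k K _ hspan).trans Cardinal.mk_range_le)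
  obtain ⟨e⟩ : Nonempty (Fin m ↪ t) := Cardinal.lift_mk_le'.1 (by simpa using h1)
  refine ⟨fun l => σ (e l), ?_⟩
  have h2 : (fun l => KaehlerDifferential.D k K (σ (e l))) = (fun v : t => (v : Ω[K⁄k])) ∘ e :=
    funext fun l => hσ (e l)
  rw [h2]
  exact LinearIndependent.comp htli e e.injective

/-- The rank of the image of `T ⊗ Ω_A → Ω_T` when `A → T` goes through a surjection onto a field. -/
theorem exists_linearIndependent_baseMap {k : Type u} [Field k] {R A T : CommRingCat.{u}}
    (ρ : k →+* R) (hρ : Function.Surjective ρ) (φ : R ⟶ A) (ψ : A ⟶ T)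
    (K : Type u) [Field K] [Algebra k K] [Algebra.EssFiniteType k K]
    (π : A →+* K) (hπ : Function.Surjective π) (χ : K →+* T) (hχ : χ.FormallySmooth) (hψ : ψ.hom = χ.comp π)
    (halg : ∀ c, algebraMap k K c = π (φ (ρ c))) (hT : IsField T)
    (m : ℕ) (hm : (m : Cardinal.{u}) ≤ Algebra.trdeg k K) :
    ∃ a : Fin m → A, LinearIndependent T fun l =>
      (CommRingCat.KaehlerDifferential.d (f := φ ≫ ψ) (ψ (a l)) : CommRingCat.KaehlerDifferential (φ ≫ ψ)) := by
  obtain ⟨b, hb⟩ := exists_linearIndependent_D k K m hm
  choose a ha using fun l => hπ (b l)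
  refine ⟨a, ?_⟩
  let _ : Algebra K T := χ.toAlgebra
  let _ : Algebra k R := ρ.toAlgebra
  let _ : Algebra R T := (φ ≫ ψ).hom.toAlgebra
  let _ : Algebra k T := ((algebraMap R T).comp ρ).toAlgebra
  haveI : IsScalarTower k R T := IsScalarTower.of_algebraMap_eq' rfl
  haveI : IsScalarTower k K T := IsScalarTower.of_algebraMap_eq fun c => by
    show ψ (φ (ρ c)) = χ (algebraMap k K c)
    rw [halg, ← RingHom.comp_apply χ π, ← hψ]
  haveI : Algebra.FormallySmooth K T := hχ
  haveI : Module.Flat K T := inferInstance
  have hi : Function.Injective (KaehlerDifferential.mapBaseChange k K T) := by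
    refine (injective_iff_map_eq_zero _).mpr fun z hz => ?_
    obtain ⟨w, rfl⟩ := (Algebra.H1Cotangent.exact_δ_mapBaseChange k K T z).mp hz
    rw [Subsingleton.elim w 0, map_zero]
  have h1 : LinearIndependent T fun l => (1 : T) ⊗ₜ[K] KaehlerDifferential.D k K (b l) := by
    let B := Module.Basis.sumExtend hb
    have h := (Algebra.TensorProduct.basis T B).linearIndependent.comp Sum.inl Sum.inl_injective
    have e : (Algebra.TensorProduct.basis T B) ∘ Sum.inl =
        fun l => (1 : T) ⊗ₜ[K] KaehlerDifferential.D k K (b l) := funext fun l => by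
      simp [B, Algebra.TensorProduct.basis_apply, Module.Basis.sumExtend]
      rfl
    exact e ▸ h
  have h2 := h1.map' (KaehlerDifferential.mapBaseChange k K T) (LinearMap.ker_eq_bot.2 hi)
  have hj : Function.Injective (KaehlerDifferential.map k R T T) := by
    haveI : Algebra.FormallyUnramified k R := Algebra.FormallyUnramified.of_surjective (Algebra.ofId k R) hρ
    refine (injective_iff_map_eq_zero _).mpr fun z hz => ?_
    obtain ⟨w, rfl⟩ := ((KaehlerDifferential.exact_mapBaseChange_map k R T) z).mp hz
    rw [Subsingleton.elim w 0, map_zero]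
  have h3 := h2.map' (KaehlerDifferential.map k R T T) (LinearMap.ker_eq_bot.2 hj)
  have e : (KaehlerDifferential.map k R T T) ∘ (KaehlerDifferential.mapBaseChange k K T) ∘
      (fun l => (1 : T) ⊗ₜ[K] KaehlerDifferential.D k K (b l)) = fun l => KaehlerDifferential.D R T (ψ.hom (a l)) := by
    funext l
    show KaehlerDifferential.map k R T T (KaehlerDifferential.mapBaseChange k K T
    ((1 : T) ⊗ₜ[K] KaehlerDifferential.D k K (b l))) = _
    rw [KaehlerDifferential.mapBaseChange_tmul, one_smul, KaehlerDifferential.map_D, KaehlerDifferential.map_D]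
    refine congrArg (KaehlerDifferential.D R T) ?_
    show χ (b l) = ψ.hom (a l)
    rw [hψ, RingHom.comp_apply, ha]
  exact e ▸ h3

end Groth.Agent.GenDiff29
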