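import Groth.Agent.GenDiff29.Basic
import Groth.Agent.KFlatLib.Perfect.LocFree
import Groth.Agent.KFlatLib.Scheme.Pullback
import Groth.Agent.S5018
import Groth.Agent.S1488

/-!
The canonical map of differentials for a smooth target.
-/

set_option autoImplicit false
set_option backward.isDefEq.respectTransparency false
set_option backward.isDefEq.respectTransparency.types false

universe u

open CategoryTheory CategoryTheory.Limits AlgebraicGeometry TopologicalSpace Opposite

namespace Groth.Agent.GenDiff29

open Synt29.OmegaStalk Groth.Agent.KFlatLib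

theorem mono_of_smooth {X Z S : Scheme.{u}} [IsIntegral X] [IsIntegral Z] [IsLocallyNoetherian Z]
    (f : X ⟶ Z) [IsDominant f] [LocallyOfFiniteType f] (q : Z ⟶ S) [Smooth q]
    (hsep : GeometricallyReduced (f.fiberToSpecResidueField (genericPoint Z)))
    (p : X ⟶ S) (hp : f ≫ q = p)
    {ΩZ : Z.Modules} {dZ : OmegaSh.Der q ΩZ} (hdZ : OmegaSh.IsUniversal dZ)
    {ΩX : X.Modules} {dX : OmegaSh.Der p ΩX} (hdX : OmegaSh.IsUniversal dX)
    {c : (Scheme.Modules.pullback f).obj ΩZ ⟶ ΩX} (hc : OmegaSh.IsDiffCompat f dZ dX c) : Mono c := by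
  subst hp
  have hη := genericPoint_eq_of_isDominant f
  have hs := FlatMisc.SmoothGeneric.genericPoint_mem_smoothLocus f hη hsep
  have hF : FlatMod.IsFinLocFree ΩZ := S5018.result q ((S1488.result q).1 inferInstance).2 ΩZ dZ hdZ
  exact mono_of_generic (KFlatLib.isFinLocFree_pullback f hF) c (injective_stalk f q hdZ hdX hc _ hs)

theorem exists_span_of_iso_freeMod {X : Scheme.{u}} {M : X.Modules} {d : ℕ} (e : M ≅ FlatMod.freeMod X d) (x : X) :
    ∃ σ : Fin d → Γ(M, ⊤), Submodule.span (X.presheaf.stalk x)
      (Set.range fun j => gm M (show x ∈ (⊤ : X.Opens) from trivial) (σ j)) = (⊤ : Submodule _ (St M x)) := by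
  let ι : Fin d → (Coh.structureModule X ⟶ M) := fun j =>
    Sigma.ι (fun _ : Fin d => Coh.structureModule X) j ≫ e.inv
  let σ : Fin d → Γ(M, ⊤) := fun j => (ι j).app ⊤ (1 : Γ(X, ⊤))
  refine ⟨σ, ?_⟩
  let P : Submodule (X.presheaf.stalk x) (St M x) :=
    Submodule.span _ (Set.range fun j => gm M (show x ∈ (⊤ : X.Opens) from trivial) (σ j))
  show P = ⊤
  let φ : (DerSch.stalkFunctor X x).obj M ⟶ ModuleCat.of (X.presheaf.stalk x) (St M x ⧸ P) := ModuleCat.ofHom P.mkQ
  have hφ : φ = 0 := by
    apply ((skyAdj x).homEquiv _ _).injective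
    rw [← cancel_epi e.inv]
    refine Sigma.hom_ext _ _ fun j => ?_
    rw [← Category.assoc, ← Category.assoc, ← Adjunction.homEquiv_naturality_left,
      ← Adjunction.homEquiv_naturality_left]
    refine congrArg _ ?_
    rw [comp_zero]
    ext z
    obtain ⟨W, hW, r, rfl⟩ := gm_surjective (Coh.structureModule X) z
    show P.mkQ ((DerSch.stalkFunctor X x).map (ι j) (gm (Coh.structureModule X) hW r)) = 0
    rw [Submodule.mkQ_apply, Submodule.Quotient.mk_eq_zero]
    have h1 : (ι j).app W (1 : Γ(X, W)) = M.presheaf.map (homOfLE (le_top (a := W))).op (σ j) := by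
      refine Eq.trans ?_ (congr($((ι j).mapPresheaf.naturality (homOfLE (le_top (a := W))).op) (1 : Γ(X, ⊤))))
      exact congrArg _ (map_one (X.presheaf.map (homOfLE (le_top (a := W))).op).hom).symm
    let r' : Γ(X, W) := r
    have h2 : (ι j).app W r = r' • (M.presheaf.map (homOfLE (le_top (a := W))).op (σ j)) := by
      rw [← h1]
      refine Eq.trans ?_ (((ι j).val.app (Opposite.op W)).hom.map_smul r' (1 : Γ(X, W)))
      exact congrArg _ (mul_one r').symm
    have h3 : (DerSch.stalkFunctor X x).map (ι j) (gm (Coh.structureModule X) hW r) =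
        X.presheaf.germ W x hW r' • gm M (show x ∈ (⊤ : X.Opens) from trivial) (σ j) := by
      refine (DerSch.stalkFunctor_map_germ x (ι j) W hW r).trans ?_
      refine (congrArg _ h2).trans ?_
      show gm M hW (r' • _) = _
      rw [gm_smul, gm_res]
    rw [h3]
    exact P.smul_mem _ (Submodule.subset_span ⟨j, rfl⟩)
  rw [eq_top_iff]
  intro z _
  exact (Submodule.Quotient.mk_eq_zero P).1 (congr($(hφ).hom z))

theorem exists_li_in_range {k : Type u} [Field k] {X Y Z : Scheme.{u}} [IsIntegral X] [IsIntegral Y]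
    (f' : X ⟶ Y) (ι : Y ⟶ Z) [IsClosedImmersion ι] (q : Z ⟶ Spec (CommRingCat.of k)) [LocallyOfFiniteType q]
    [IsDominant f'] [LocallyOfFinitePresentation f'] (hs : genericPoint X ∈ f'.smoothLocus)
    (f : X ⟶ Z) (hfac : f' ≫ ι = f) (p : X ⟶ Spec (CommRingCat.of k)) (hp : f ≫ q = p)
    {ΩZ : Z.Modules} {dZ : OmegaSh.Der q ΩZ} (hdZ : OmegaSh.IsUniversal dZ)
    {ΩX : X.Modules} {dX : OmegaSh.Der p ΩX} (hdX : OmegaSh.IsUniversal dX)
    {c : (Scheme.Modules.pullback f).obj ΩZ ⟶ ΩX} (hc : OmegaSh.IsDiffCompat f dZ dX c)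
    (m : ℕ) (hm : m ≤ VarDim.deg q (f (genericPoint X))) :
    ∃ a : Fin m → St ΩX (genericPoint X), LinearIndependent (X.presheaf.stalk (genericPoint X)) a ∧
      ∀ l, ∃ z, (DerSch.stalkFunctor X (genericPoint X)).map c z = a l := by
  subst hfac hp
  have hiso : IsIso (ι.residueFieldMap (f' (genericPoint X))) := by
    rw [ConcreteCategory.isIso_iff_bijective]
    refine ⟨(ι.residueFieldMap _).hom.injective, fun w => ?_⟩
    obtain ⟨v, rfl⟩ := Scheme.residue_surjective _ _ w
    obtain ⟨u', rfl⟩ := ι.stalkMap_surjective _ v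
    exact ⟨Z.residue _ u', congr($(Scheme.residue_residueFieldMap ι _) u')⟩
  have e : VarDim.deg (ι ≫ q) (f' (genericPoint X)) = VarDim.deg q (ι (f' (genericPoint X))) :=
    VarDim.deg_comp q ι _
  obtain ⟨a, ha⟩ := exists_linearIndependent_stalk f' ι q hs hdX m (e ▸ hm)
  exact ⟨_, ha, fun l => map_c_stalkD (f' ≫ ι) q hdZ hdX hc _ (a l)⟩

theorem exists_comp_of_span {K V : Type*} [Field K] [AddCommGroup V] [Module K V] {ι : Type*} [Finite ι]
    (v : ι → V) {m : ℕ} (a : Fin m → V) (ha : LinearIndependent K a)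
    (h : ∀ l, a l ∈ Submodule.span K (Set.range v)) :
    ∃ g : Fin m → ι, LinearIndependent K (v ∘ g) := by
  obtain ⟨b, hb, hspan, hli⟩ := exists_linearIndependent K (Set.range v)
  haveI : Finite b := ((Set.finite_range v).subset hb).to_subtype
  letI := Fintype.ofFinite b
  haveI : Module.Finite K (Submodule.span K b) := Module.Finite.span_of_finite K (Set.toFinite b)
  have ha' : LinearIndependent K (fun l => (⟨a l, hspan.symm ▸ h l⟩ : Submodule.span K b)) :=
    LinearIndependent.of_comp (Submodule.span K b).subtype ha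
  have hcard : m ≤ Fintype.card b := by
    have h1 := ha'.fintype_card_le_finrank
    rwa [Fintype.card_fin, finrank_span_set_eq_card hli, Set.toFinset_card] at h1
  obtain ⟨j⟩ := Function.Embedding.nonempty_of_card_le (α := Fin m) (β := b) (by simpa using hcard)
  choose g hg using fun l => hb (j l).2
  refine ⟨g, ?_⟩
  rw [show v ∘ g = (Subtype.val : b → V) ∘ j from funext hg]
  exact hli.comp _ j.injective

/-- Linearly independent sections of the differentials over any open. -/
theorem exists_sections {k : Type u} [Field k] {X Z : Scheme.{u}} [IsIntegral X] [IsIntegral Z]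
    (f : X ⟶ Z) [QuasiCompact f] (p : X ⟶ Spec (CommRingCat.of k)) [LocallyOfFiniteType p]
    (q : Z ⟶ Spec (CommRingCat.of k)) [LocallyOfFiniteType q] (hp : f ≫ q = p)
    (η : Z) (hη : closure {η} = closure (Set.range f.base)) (m : ℕ)
    (hm : topologicalKrullDim (closure (Set.range f.base)) = m)
    (hsep : GeometricallyReduced (pullback.snd f (Z.fromSpecResidueField η)))
    {ΩZ : Z.Modules} {dZ : OmegaSh.Der q ΩZ} (hdZ : OmegaSh.IsUniversal dZ)
    {ΩX : X.Modules} {dX : OmegaSh.Der p ΩX} (hdX : OmegaSh.IsUniversal dX)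
    {c : (Scheme.Modules.pullback f).obj ΩZ ⟶ ΩX} (hc : OmegaSh.IsDiffCompat f dZ dX c)
    {d : ℕ} (e : (Scheme.Modules.pullback f).obj ΩZ ≅ FlatMod.freeMod X d) :
    ∃ s : Fin m → Γ(ΩX, ⊤), LinearIndependent (X.presheaf.stalk (genericPoint X))
      fun l => gm ΩX (show genericPoint X ∈ (⊤ : X.Opens) from trivial) (s l) := by
  have hη' : η = f (genericPoint X) := by
    have h1 : IsGenericPoint (f.base (genericPoint X)) (closure (f.base '' Set.univ)) :=
      (genericPoint_spec X).image f.continuous
    rw [Set.image_univ] at h1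
    exact IsGenericPoint.eq (show IsGenericPoint η _ from hη) h1
  have hdeg : m = VarDim.deg q η := by
    rw [← hη, VarDim.topologicalKrullDim_closure_singleton q η] at hm
    exact_mod_cast hm.symm
  haveI : IsReduced f.image := (S2266.result f).1
  haveI : IrreducibleSpace f.image := (S2266.result f).2 inferInstance inferInstance
  haveI : IsIntegral f.image := isIntegral_of_irreducibleSpace_of_isReduced _
  haveI : IsLocallyNoetherian Z := LocallyOfFiniteType.isLocallyNoetherian q
  haveI : IsLocallyNoetherian f.image := LocallyOfFiniteType.isLocallyNoetherian f.imageι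
  haveI : LocallyOfFiniteType f := by
    haveI : LocallyOfFiniteType (f ≫ q) := hp ▸ inferInstance
    exact locallyOfFiniteType_of_comp f q
  haveI : LocallyOfFiniteType f.toImage := by
    haveI : LocallyOfFiniteType (f.toImage ≫ f.imageι) := f.toImage_imageι.symm ▸ inferInstance
    exact locallyOfFiniteType_of_comp f.toImage f.imageι
  have hy := genericPoint_eq_of_isDominant f.toImage
  have hy2 : η = f.imageι (genericPoint f.image) := by
    rw [← hy, hη']
    exact (congr($(f.toImage_imageι).base (genericPoint X))).symm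
  have hr : GeometricallyReduced (f.toImage.fiberToSpecResidueField (genericPoint f.image)) := by
    apply geometricallyReduced_fiber f.toImage f.imageι
    rw [f.toImage_imageι, ← hy2]
    exact hsep
  have hs := FlatMisc.SmoothGeneric.genericPoint_mem_smoothLocus f.toImage hy hr
  obtain ⟨a, ha, har⟩ := exists_li_in_range f.toImage f.imageι q hs f f.toImage_imageι p hp hdZ hdX hc m
    (by rw [← hη', ← hdeg])
  obtain ⟨σ, hσ⟩ := exists_span_of_iso_freeMod e (genericPoint X)
  have key : ∀ l, a l ∈ Submodule.span (X.presheaf.stalk (genericPoint X))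
      (Set.range fun j => gm ΩX (show genericPoint X ∈ (⊤ : X.Opens) from trivial) (c.app ⊤ (σ j))) := by
    intro l
    obtain ⟨z, hz⟩ := har l
    rw [← hz]
    clear hz
    have hzm : z ∈ Submodule.span (X.presheaf.stalk (genericPoint X))
        (Set.range fun j => gm ((Scheme.Modules.pullback f).obj ΩZ)
          (show genericPoint X ∈ (⊤ : X.Opens) from trivial) (σ j)) := by rw [hσ]; trivial
    induction hzm using Submodule.span_induction with
    | mem w hw =>
      obtain ⟨j, rfl⟩ := hw
      refine Submodule.subset_span ⟨j, ?_⟩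
      exact (DerSch.stalkFunctor_map_germ (genericPoint X) c ⊤ trivial (σ j)).symm
    | zero => rw [map_zero]; exact zero_mem _
    | add w w' _ _ h h' => rw [map_add]; exact add_mem h h'
    | smul r w _ h => rw [map_smul]; exact Submodule.smul_mem _ r h
  letI : Field (X.presheaf.stalk (genericPoint X)) := inferInstanceAs (Field X.functionField)
  obtain ⟨g, hg⟩ := exists_comp_of_span _ a ha key
  exact ⟨fun l => c.app ⊤ (σ (g l)), hg⟩

/-- Independence at the generic point gives independence over any open. -/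
theorem li_res {X : Scheme.{u}} [IsIntegral X] {M : X.Modules} {m : ℕ} (s : Fin m → Γ(M, ⊤))
    (h : LinearIndependent (X.presheaf.stalk (genericPoint X))
      fun l => gm M (show genericPoint X ∈ (⊤ : X.Opens) from trivial) (s l)) (U : X.Opens) :
    LinearIndependent Γ(X, U) (fun l => M.presheaf.map (homOfLE (le_top (a := U))).op (s l)) := by
  rw [Fintype.linearIndependent_iff]
  intro g hg i
  by_cases hne : Nonempty U
  · have hξ : genericPoint X ∈ U :=
      ((genericPoint_spec X).mem_open_set_iff U.isOpen).2 (by rw [Set.univ_inter]; exact Set.nonempty_coe_sort.1 hne)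
    rw [Fintype.linearIndependent_iff] at h
    have h0 := congrArg (gm M hξ) hg
    rw [map_zero, map_sum] at h0
    simp only [gm_smul, gm_res] at h0
    have := h (fun l => X.presheaf.germ U _ hξ (g l)) h0 i
    exact germ_injective_of_isIntegral X _ hξ (this.trans (map_zero _).symm)
  · have hb : U = ⊥ := SetLike.ext fun x => ⟨fun hx => (hne ⟨⟨x, hx⟩⟩).elim, fun hx => hx.elim⟩
    subst hb
    exact Subsingleton.elim _ _

end Groth.Agent.GenDiff29
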