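import Groth.Agent.FlatMisc.SmoothGeneric

/-!
A geometrically reduced variety is smooth at its generic point.
-/

set_option autoImplicit false

universe u

open AlgebraicGeometry CategoryTheory CategoryTheory.Limits TopologicalSpace TensorProduct

namespace Groth.Agent.GenDiff29

open Groth.Agent.FlatMisc.GenericReduction Groth.Agent.FlatMisc.SpreadRed Groth.Agent.FlatMisc.NearGeneric

attribute [local instance] Algebra.TensorProduct.rightAlgebra in
theorem genericPoint_mem_smoothLocus_of_reduced {k : Type u} [Field k] {X : Scheme.{u}} [IsIntegral X]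
    (p : X ⟶ Spec (CommRingCat.of k)) [LocallyOfFiniteType p]
    (h : ∀ (K : Type u) [Field K] [Algebra k K] [IsAlgClosure k K],
      IsReduced (pullback p (Spec.map (CommRingCat.ofHom (algebraMap k K))))) :
    genericPoint X ∈ p.smoothLocus := by
  have hU := isAffineOpen_top (Spec (CommRingCat.of k))
  obtain ⟨V, hV, hξV, -⟩ := exists_isAffineOpen_mem_and_subset (x := genericPoint X) (U := (⊤ : X.Opens)) (by simp)
  have hVU : V ≤ p ⁻¹ᵁ ⊤ := le_top
  haveI : Nonempty V := ⟨⟨_, hξV⟩⟩
  letI := (p.appLE ⊤ V hVU).hom.toAlgebra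
  let R := Γ(Spec (CommRingCat.of k), ⊤)
  let e : k ≃+* R := (Scheme.ΓSpecIso (CommRingCat.of k)).symm.commRingCatIsoToRingEquiv
  letI : Field R := (e.symm.toMulEquiv.isField (Field.toIsField k)).toField
  let K := AlgebraicClosure R
  letI : Algebra k R := e.toRingHom.toAlgebra
  haveI : IsAlgClosure k K := ⟨inferInstance, by
    haveI : Algebra.IsAlgebraic k R := by
      haveI : Module.Finite k R := RingHom.Finite.of_surjective e.toRingHom e.surjective
      infer_instance
    exact Algebra.IsAlgebraic.trans k R K⟩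
  haveI := h K
  let m : pullback (Spec.map (CommRingCat.ofHom (algebraMap R Γ(X, V))))
      (Spec.map (CommRingCat.ofHom (algebraMap R K))) ⟶
      pullback p (Spec.map (CommRingCat.ofHom (algebraMap k K))) :=
    pullback.map _ _ _ _ hV.fromSpec (𝟙 _) hU.fromSpec (hU.SpecMap_appLE_fromSpec p hV hVU) (by
      rw [Category.id_comp, IsAffineOpen.fromSpec_top, Scheme.isoSpec_Spec_inv, ← Spec.map_comp,
        IsScalarTower.algebraMap_eq k R K]
      rfl)
  haveI : IsOpenImmersion m := by
    haveI := hV.isOpenImmersion_fromSpec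
    haveI := hU.isOpenImmersion_fromSpec
    infer_instance
  let ε : Spec (CommRingCat.of (Γ(X, V) ⊗[R] K)) ≅
      pullback (Spec.map (CommRingCat.ofHom (algebraMap R Γ(X, V))))
        (Spec.map (CommRingCat.ofHom (algebraMap R K))) := isPullback_spec_tensor.isoPullback
  haveI : _root_.IsReduced (Γ(X, V) ⊗[R] K) :=
    (affine_isReduced_iff (CommRingCat.of (Γ(X, V) ⊗[R] K))).mp (isReduced_of_isOpenImmersion (ε.hom ≫ m))
  haveI : Algebra.IsGeometricallyReduced R Γ(X, V) := by
    rw [Algebra.isGeometricallyReduced_field_iff]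
    exact isReduced_of_injective (Algebra.TensorProduct.comm R K Γ(X, V))
      (Algebra.TensorProduct.comm R K Γ(X, V)).injective
  haveI : Algebra.FiniteType R Γ(X, V) := p.finiteType_appLE hU hV hVU
  haveI : IsDomain Γ(X, V) := inferInstance
  haveI : FaithfulSMul R Γ(X, V) := by
    rw [faithfulSMul_iff_algebraMap_injective]
    exact RingHom.injective _
  haveI : Algebra.IsGeometricallyReduced R (R ⊗[R] Γ(X, V)) := by
    rw [Algebra.isGeometricallyReduced_field_iff]
    have := (Algebra.isGeometricallyReduced_field_iff R Γ(X, V)).1 inferInstance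
    exact isReduced_of_injective
      (Algebra.TensorProduct.map (AlgHom.id R (AlgebraicClosure R)) (Algebra.TensorProduct.lid R Γ(X, V)).toAlgHom)
      (Module.Flat.lTensor_preserves_injective_linearMap _ (Algebra.TensorProduct.lid R Γ(X, V)).injective)
  have hs := Groth.Agent.FlatMisc.SmoothGeneric.isSmoothAt_bot (R := R) (S := Γ(X, V)) R
  haveI : LocallyOfFinitePresentation p := by
    haveI : IsLocallyNoetherian (Spec (CommRingCat.of k)) := inferInstance
    infer_instance
  rw [Scheme.Hom.mem_smoothLocus, formallySmooth_stalkMap_iff ⊤ hU V hV hVU hξV]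
  have hp : (hV.primeIdealOf ⟨genericPoint X, hξV⟩).asIdeal = ⊥ := by
    rw [hV.primeIdealOf_genericPoint, genericPoint_eq_bot_of_affine]
    rfl
  show Algebra.IsSmoothAt _ (hV.primeIdealOf ⟨genericPoint X, hξV⟩).asIdeal
  simpa only [hp] using hs

end Groth.Agent.GenDiff29
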