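import Groth.Agent.GenDiff29.Final
import Groth.Agent.AModX.Res
import Groth.Prelude.Def_ExtPow2

/-!
A nonzero section of an exterior power of sheaves from independent sections.
-/

set_option autoImplicit false
set_option backward.isDefEq.respectTransparency false
set_option backward.isDefEq.respectTransparency.types false

universe u

open CategoryTheory AlgebraicGeometry TopologicalSpace Opposite

namespace Groth.Agent.GenDiff29

open Synt29.OmegaStalk Groth.Agent.AModX

theorem ιMulti_ne_zero {R K V N : Type*} [CommRing R] [Field K] [Algebra R K] [AddCommGroup V] [Module K V]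
    [Module R V] [IsScalarTower R K V] [AddCommGroup N] [Module R N] {m : ℕ} (e : Fin m → N) (g : N →ₗ[R] V)
    (h : LinearIndependent K (g ∘ e)) : exteriorPower.ιMulti R m e ≠ 0 := by
  obtain ⟨L, hL⟩ := LinearMap.exists_leftInverse_of_injective (Fintype.linearCombination K (g ∘ e))
    (LinearMap.ker_eq_bot.2 h.fintypeLinearCombination_injective)
  let G : N →ₗ[R] (Fin m → K) := (L.restrictScalars R).comp g
  have hG : ∀ j, G (e j) = Pi.single j 1 := fun j => by
    have h1 := congr($hL (Pi.single j (1 : K)))
    simpa [G, Fintype.linearCombination_apply_single] using h1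
  let A : N [⋀^Fin m]→ₗ[R] K :=
    { toFun := fun v => (Matrix.of fun i => G (v i)).det
      map_update_add' := fun {dec} v i x y => by
        cases Subsingleton.elim dec (instDecidableEqFin m)
        have h1 : ∀ z, (fun i' => G (Function.update v i z i')) = Function.update (fun i' => G (v i')) i (G z) :=
          fun z => funext fun i' => Function.apply_update (fun _ => G) v i z i'
        simp only [h1, map_add]
        exact Matrix.det_updateRow_add (Matrix.of fun i' => G (v i')) i (G x) (G y)
      map_update_smul' := fun {dec} v i c x => by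
        cases Subsingleton.elim dec (instDecidableEqFin m)
        have h1 : ∀ z, (fun i' => G (Function.update v i z i')) = Function.update (fun i' => G (v i')) i (G z) :=
          fun z => funext fun i' => Function.apply_update (fun _ => G) v i z i'
        simp only [h1, map_smul]
        rw [show c • G x = algebraMap R K c • G x from (algebraMap_smul K c (G x)).symm]
        exact (Matrix.det_updateRow_smul (Matrix.of fun i' => G (v i')) i _ (G x)).trans (Algebra.smul_def c _).symm
      map_eq_zero_of_eq' := fun v i j hv hij => Matrix.det_zero_of_row_eq hij (congrArg G hv) }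
  intro h0
  have h1 : exteriorPower.alternatingMapLinearEquiv A (exteriorPower.ιMulti R m e) = 1 := by
    rw [exteriorPower.alternatingMapLinearEquiv_apply_ιMulti]
    show Matrix.det _ = 1
    rw [show (Matrix.of fun i => G (e i)) = (1 : Matrix (Fin m) (Fin m) K) from Matrix.ext fun i j => by
      rw [Matrix.of_apply, hG]; simp [Matrix.one_apply, Pi.single_apply, eq_comm]]
    exact Matrix.det_one
  rw [h0, map_zero] at h1
  exact zero_ne_one h1

theorem exists_ne_zero_section {X : Scheme.{u}} [IsIntegral X] {E L : X.Modules} {m : ℕ}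
    (hL : ExtPow.IsExtPow m E L) (s : Fin m → Γ(E, ⊤))
    (hs : LinearIndependent (X.presheaf.stalk (genericPoint X))
      fun l => gm E (show genericPoint X ∈ (⊤ : X.Opens) from trivial) (s l))
    (U : X.Opens) (hU : genericPoint X ∈ U) : ∃ t : Γ(L, U), t ≠ 0 := by
  obtain ⟨φ, hφ⟩ := hL
  let e : ∀ V : X.Opens, Fin m → E.val.obj (op V) := fun V l => res E le_top (s l)
  let sf : ∀ V : X.affineOpens, Γ(L, V.1) := fun V =>
    (φ V).symm (exteriorPower.ιMulti Γ(X, V.1) m (e V.1))
  have hres : ∀ (V W : X.affineOpens) (h : W.1 ≤ V.1), res L h (sf V) = sf W := fun V W h => by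
    refine (hφ V W h (e V.1)).trans (congrArg (φ W).symm (congrArg _ (funext fun j => ?_)))
    exact res_res le_top h (s j)
  let ι := {V : X.affineOpens // V.1 ≤ U}
  obtain ⟨t, ht, -⟩ := existsUnique_glue (M := L) (V := U) (fun i : ι => i.1.1) (fun i => i.2) (fun p hp => by
      obtain ⟨_, ⟨V, hV, rfl⟩, hpV, hVU⟩ := X.isBasis_affineOpens.exists_subset_of_mem_open hp U.isOpen
      exact ⟨⟨⟨V, hV⟩, hVU⟩, hpV⟩) (fun i => sf i.1) (fun i j => eq_of_locally _ _ fun p hp => by
      obtain ⟨_, ⟨W, hW, rfl⟩, hpW, hWij⟩ :=
        X.isBasis_affineOpens.exists_subset_of_mem_open hp (i.1.1 ⊓ j.1.1).isOpen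
      refine ⟨W, hWij, hpW, ?_⟩
      rw [res_res, res_res]
      exact (hres i.1 ⟨W, hW⟩ _).trans (hres j.1 ⟨W, hW⟩ _).symm)
  refine ⟨t, fun h0 => ?_⟩
  obtain ⟨_, ⟨V, hV, rfl⟩, hξV, hVU⟩ := X.isBasis_affineOpens.exists_subset_of_mem_open hU U.isOpen
  have h1 : sf ⟨V, hV⟩ = 0 := by
    have h2 := ht ⟨⟨V, hV⟩, hVU⟩
    rw [h0, map_zero] at h2
    exact h2.symm
  have h2 : exteriorPower.ιMulti Γ(X, V) m (e V) = 0 :=
    (φ ⟨V, hV⟩).symm.injective (h1.trans (map_zero _).symm)
  letI : Field (X.presheaf.stalk (genericPoint X)) := inferInstanceAs (Field X.functionField)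
  letI : Algebra Γ(X, V) (X.presheaf.stalk (genericPoint X)) := (X.presheaf.germ V _ hξV).hom.toAlgebra
  letI : Module Γ(X, V) (St E (genericPoint X)) := Module.compHom _ (X.presheaf.germ V _ hξV).hom
  haveI : IsScalarTower Γ(X, V) (X.presheaf.stalk (genericPoint X)) (St E (genericPoint X)) :=
    IsScalarTower.of_algebraMap_smul fun _ _ => rfl
  let g : E.val.obj (op V) →ₗ[Γ(X, V)] St E (genericPoint X) :=
    { toFun := gm E hξV
      map_add' := fun a b => map_add _ a b
      map_smul' := fun r a => gm_smul E hξV r a }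
  refine ιMulti_ne_zero (K := X.presheaf.stalk (genericPoint X)) (e V) g ?_ h2
  rw [show g ∘ e V = fun l => gm E (show genericPoint X ∈ (⊤ : X.Opens) from trivial) (s l) from
    funext fun l => gm_res E (homOfLE le_top) hξV (s l)]
  exact hs

end Groth.Agent.GenDiff29
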